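import Cfsg.Agent.H320.O8.Arith
import Cfsg.Agent.FastGrp
import Cfsg.Agent.Prune
set_option linter.all false
open scoped Cfsg.Agent.FastGrp

/-!
# S4979, row `Ω₈⁺(2)`: elements (helper852)

In the model `Om` of helper320 (words in Siegel transformations): an elementary abelian subgroup of order `3 ^ 4` inverted by
an element, one of order `5 ^ 2` whose elements are conjugate to their squares, eight elements of odd order no two of which
are conjugate.
-/

set_option autoImplicit false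
set_option maxRecDepth 100000

namespace Cfsg.Agent.H852.QA.O8

open Cfsg.Agent.StdO8.Model Cfsg.Agent.StdO8.Code Cfsg Subgroup

def x1 : List (ℕ × ℕ) := [(230, 247), (4, 17)]
def x2 : List (ℕ × ℕ) := [(237, 254), (14, 19)]
def x3 : List (ℕ × ℕ) := [(55, 34), (112, 21)]
def x4 : List (ℕ × ℕ) := [(88, 77), (118, 21)]
def t : List (ℕ × ℕ) := [(9, 247), (111, 34)]
def y1 : List (ℕ × ℕ) := [(217, 202), (126, 19), (224, 241), (255, 17)]
def y2 : List (ℕ × ℕ) := [(129, 152), (235, 25), (189, 172), (160, 17)]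
def u : List (ℕ × ℕ) := [(59, 241), (193, 109), (129, 152), (235, 25)]
def z : List (ℕ × ℕ) := [(155, 138), (14, 17), (205, 218), (60, 23), (135, 154), (88, 29)]

/-- repetition -/
def rp : ℕ → List (ℕ × ℕ) → List (ℕ × ℕ)
  | 0, _ => []
  | n + 1, l => l ++ rp n l

theorem word_rp (n : ℕ) (l : List (ℕ × ℕ)) : word (rp n l) = word l ^ n := by
  induction n with
  | zero => rfl
  | succ n ih => rw [rp, word_append, ih, pow_succ']

theorem word_ne_one {l : List (ℕ × ℕ)} (hl : l.all ok = true) (v : ℕ) (hv : v < 256) (hv' : ev l v < 256)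
    (h : ev l v ≠ v) : word l ≠ 1 := fun e => by
  have h1 := word_dec hl v
  rw [e] at h1
  exact h (dec_inj hv' hv h1.symm)

/-- comparison with the identity -/
def tst (l : List (ℕ × ℕ)) : Bool := l.all ok && basis.any fun v => ev l v != v && Nat.blt (ev l v) 256

theorem ne_one_of_tst {l : List (ℕ × ℕ)} (h : tst l = true) : word l ≠ 1 := by
  rw [tst, Bool.and_eq_true, List.any_eq_true] at h
  obtain ⟨h1, v, hv, h2⟩ := h
  rw [Bool.and_eq_true, bne_iff_ne] at h2
  refine word_ne_one h1 v ?_ (by simpa using h2.2) h2.1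
  simp only [basis, List.mem_cons, List.not_mem_nil, or_false] at hv
  rcases hv with rfl | rfl | rfl | rfl | rfl | rfl | rfl | rfl <;> norm_num

/-! ### homomorphisms from cyclic groups -/

section hom

variable {G : Type*} [Group G]

/-- the homomorphism `ZMod n → G`, `1 ↦ g` -/
noncomputable def cyc (n : ℕ) (g : G) (h : g ^ n = 1) : Multiplicative (ZMod n) →* G :=
  AddMonoidHom.toMultiplicativeLeft
    (ZMod.lift n ⟨(zmultiplesHom (Additive G)) (Additive.ofMul g), by
      show Additive.ofMul (g ^ ((n : ℕ) : ℤ)) = 0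
      rw [zpow_natCast, h]
      rfl⟩)

theorem cyc_apply (n : ℕ) [NeZero n] (g : G) (h : g ^ n = 1) (a : ZMod n) :
    cyc n g h (Multiplicative.ofAdd a) = g ^ a.val := by
  conv_lhs => rw [← ZMod.natCast_zmod_val a]
  show Additive.toMul (ZMod.lift n _ (((a.val : ℕ) : ZMod n))) = _
  have h1 := ZMod.lift_coe n (⟨(zmultiplesHom (Additive G)) (Additive.ofMul g), by
      show Additive.ofMul (g ^ ((n : ℕ) : ℤ)) = 0
      rw [zpow_natCast, h]
      rfl⟩ : { f : ℤ →+ Additive G // f n = 0 }) ((a.val : ℕ) : ℤ)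
  rw [Int.cast_natCast] at h1
  rw [h1]
  show g ^ (((a.val : ℕ) : ℤ)) = _
  rw [zpow_natCast]

theorem conj_pow_ok {t y : G} {k : ℕ} (h : t * y * t⁻¹ = y ^ k) (a : ℕ) : t * y ^ a * t⁻¹ = (y ^ a) ^ k := by
  rw [← conj_pow, h, ← pow_mul, ← pow_mul, mul_comm]

theorem conj_mul_ok {t y y' : G} (hc : Commute y y') {k : ℕ} (h : t * y * t⁻¹ = y ^ k) (h' : t * y' * t⁻¹ = y' ^ k) :
    t * (y * y') * t⁻¹ = (y * y') ^ k := by
  rw [hc.mul_pow, ← h, ← h']
  group

theorem isConj_pow {t y : G} {k : ℕ} (h : t * y * t⁻¹ = y ^ k) (j : ℕ) : IsConj y (y ^ k ^ j) := by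
  rw [isConj_iff]
  refine ⟨t ^ j, ?_⟩
  induction j with
  | zero => simp
  | succ j ih =>
    calc t ^ (j + 1) * y * (t ^ (j + 1))⁻¹ = t * (t ^ j * y * (t ^ j)⁻¹) * t⁻¹ := by rw [pow_succ']; group
      _ = t * y ^ k ^ j * t⁻¹ := by rw [ih]
      _ = (y ^ k ^ j) ^ k := conj_pow_ok h _
      _ = _ := by rw [← pow_mul, ← pow_succ]

/-- two commuting elements of order `p` -/
theorem exists_two {p : ℕ} [NeZero p] {a b : G} (ha : a ^ p = 1) (hb : b ^ p = 1) (hc : Commute a b)
    (hi : ∀ i j : ZMod p, a ^ i.val * b ^ j.val = 1 → i = 0 ∧ j = 0) {t : G} {k : ℕ} (hat : t * a * t⁻¹ = a ^ k)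
    (hbt : t * b * t⁻¹ = b ^ k) :
    ∃ X : Subgroup G, Nat.card X = p ^ 2 ∧ (∀ y ∈ X, ∀ y' ∈ X, y * y' = y' * y) ∧ (∀ y ∈ X, y ^ p = 1) ∧
      ∀ y ∈ X, t * y * t⁻¹ = y ^ k := by
  have hcc : ∀ m n, Commute (cyc p a ha m) (cyc p b hb n) := fun m n => by
    rw [← ofAdd_toAdd m, ← ofAdd_toAdd n, cyc_apply, cyc_apply]
    exact hc.pow_pow _ _
  set f : Multiplicative (ZMod p) × Multiplicative (ZMod p) →* G := (cyc p a ha).noncommCoprod (cyc p b hb) hcc with hf
  have hfa : ∀ i j : ZMod p, f (Multiplicative.ofAdd i, Multiplicative.ofAdd j) = a ^ i.val * b ^ j.val := fun i j => by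
    rw [hf, MonoidHom.noncommCoprod_apply, cyc_apply, cyc_apply]
  have hinj : Function.Injective f := by
    rw [injective_iff_map_eq_one]
    rintro ⟨i, j⟩ h
    rw [← ofAdd_toAdd i, ← ofAdd_toAdd j, hfa] at h
    obtain ⟨h1, h2⟩ := hi _ _ h
    exact Prod.ext (Multiplicative.toAdd.injective h1) (Multiplicative.toAdd.injective h2)
  refine ⟨f.range, ?_, ?_, ?_, ?_⟩
  · rw [← Nat.card_congr (MonoidHom.ofInjective hinj).toEquiv, Nat.card_prod]
    simp only [Nat.card_eq_fintype_card, Fintype.card_multiplicative, ZMod.card, pow_two]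
  · rintro _ ⟨x, rfl⟩ _ ⟨y, rfl⟩
    rw [← map_mul, ← map_mul, mul_comm]
  · rintro _ ⟨⟨i, j⟩, rfl⟩
    rw [← map_pow]
    have h1 : ((i, j) : Multiplicative (ZMod p) × Multiplicative (ZMod p)) ^ p = 1 := by
      ext
      · show p • Multiplicative.toAdd i = 0
        simp
      · show p • Multiplicative.toAdd j = 0
        simp
    rw [h1, map_one]
  · rintro _ ⟨⟨i, j⟩, rfl⟩
    rw [← ofAdd_toAdd i, ← ofAdd_toAdd j, hfa]
    exact conj_mul_ok (hc.pow_pow _ _) (conj_pow_ok hat _) (conj_pow_ok hbt _)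

/-- four commuting elements of order `p` -/
theorem exists_four {p : ℕ} [NeZero p] {a b c d : G} (ha : a ^ p = 1) (hb : b ^ p = 1) (hc : c ^ p = 1) (hd : d ^ p = 1)
    (hab : Commute a b) (hac : Commute a c) (had : Commute a d) (hbc : Commute b c) (hbd : Commute b d)
    (hcd : Commute c d)
    (hi : ∀ i j k l : ZMod p, a ^ i.val * b ^ j.val * (c ^ k.val * d ^ l.val) = 1 → i = 0 ∧ j = 0 ∧ k = 0 ∧ l = 0)
    {t : G} {k : ℕ} (hat : t * a * t⁻¹ = a ^ k) (hbt : t * b * t⁻¹ = b ^ k) (hct : t * c * t⁻¹ = c ^ k)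
    (hdt : t * d * t⁻¹ = d ^ k) :
    ∃ X : Subgroup G, Nat.card X = p ^ 4 ∧ (∀ y ∈ X, ∀ y' ∈ X, y * y' = y' * y) ∧ (∀ y ∈ X, y ^ p = 1) ∧
      ∀ y ∈ X, t * y * t⁻¹ = y ^ k := by
  have hcc : ∀ m n, Commute (cyc p a ha m) (cyc p b hb n) := fun m n => by
    rw [← ofAdd_toAdd m, ← ofAdd_toAdd n, cyc_apply, cyc_apply]
    exact hab.pow_pow _ _
  have hcc' : ∀ m n, Commute (cyc p c hc m) (cyc p d hd n) := fun m n => by
    rw [← ofAdd_toAdd m, ← ofAdd_toAdd n, cyc_apply, cyc_apply]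
    exact hcd.pow_pow _ _
  set f : Multiplicative (ZMod p) × Multiplicative (ZMod p) →* G := (cyc p a ha).noncommCoprod (cyc p b hb) hcc with hf
  set f' : Multiplicative (ZMod p) × Multiplicative (ZMod p) →* G := (cyc p c hc).noncommCoprod (cyc p d hd) hcc'
    with hf'
  have hfa : ∀ i j : ZMod p, f (Multiplicative.ofAdd i, Multiplicative.ofAdd j) = a ^ i.val * b ^ j.val := fun i j => by
    rw [hf, MonoidHom.noncommCoprod_apply, cyc_apply, cyc_apply]
  have hfa' : ∀ i j : ZMod p, f' (Multiplicative.ofAdd i, Multiplicative.ofAdd j) = c ^ i.val * d ^ j.val := fun i j => by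
    rw [hf', MonoidHom.noncommCoprod_apply, cyc_apply, cyc_apply]
  have hff : ∀ m n, Commute (f m) (f' n) := by
    rintro ⟨i, j⟩ ⟨i', j'⟩
    rw [← ofAdd_toAdd i, ← ofAdd_toAdd j, ← ofAdd_toAdd i', ← ofAdd_toAdd j', hfa, hfa']
    exact ((hac.pow_pow _ _).mul_right (had.pow_pow _ _)).mul_left ((hbc.pow_pow _ _).mul_right (hbd.pow_pow _ _))
  set F := f.noncommCoprod f' hff with hF
  have hFa : ∀ i j k l : ZMod p, F ((Multiplicative.ofAdd i, Multiplicative.ofAdd j),
      (Multiplicative.ofAdd k, Multiplicative.ofAdd l)) = a ^ i.val * b ^ j.val * (c ^ k.val * d ^ l.val) :=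
    fun i j k l => by
      rw [hF, MonoidHom.noncommCoprod_apply]
      show f _ * f' _ = _
      rw [hfa, hfa']
  have hinj : Function.Injective F := by
    rw [injective_iff_map_eq_one]
    rintro ⟨⟨i, j⟩, ⟨k, l⟩⟩ h
    rw [← ofAdd_toAdd i, ← ofAdd_toAdd j, ← ofAdd_toAdd k, ← ofAdd_toAdd l, hFa] at h
    obtain ⟨h1, h2, h3, h4⟩ := hi _ _ _ _ h
    exact Prod.ext (Prod.ext (Multiplicative.toAdd.injective h1) (Multiplicative.toAdd.injective h2))
      (Prod.ext (Multiplicative.toAdd.injective h3) (Multiplicative.toAdd.injective h4))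
  refine ⟨F.range, ?_, ?_, ?_, ?_⟩
  · rw [← Nat.card_congr (MonoidHom.ofInjective hinj).toEquiv, Nat.card_prod, Nat.card_prod]
    simp only [Nat.card_eq_fintype_card, Fintype.card_multiplicative, ZMod.card]
    ring
  · rintro _ ⟨x, rfl⟩ _ ⟨y, rfl⟩
    rw [← map_mul, ← map_mul, mul_comm]
  · rintro _ ⟨x, rfl⟩
    rw [← map_pow]
    have h1 : x ^ p = 1 := by
      obtain ⟨⟨i, j⟩, ⟨k, l⟩⟩ := x
      ext
      · show p • Multiplicative.toAdd i = 0
        simp
      · show p • Multiplicative.toAdd j = 0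
        simp
      · show p • Multiplicative.toAdd k = 0
        simp
      · show p • Multiplicative.toAdd l = 0
        simp
    rw [h1, map_one]
  · rintro _ ⟨⟨⟨i, j⟩, ⟨k, l⟩⟩, rfl⟩
    rw [← ofAdd_toAdd i, ← ofAdd_toAdd j, ← ofAdd_toAdd k, ← ofAdd_toAdd l, hFa]
    refine conj_mul_ok ?_ (conj_mul_ok (hab.pow_pow _ _) (conj_pow_ok hat _) (conj_pow_ok hbt _))
      (conj_mul_ok (hcd.pow_pow _ _) (conj_pow_ok hct _) (conj_pow_ok hdt _))
    exact ((hac.pow_pow _ _).mul_right (had.pow_pow _ _)).mul_left ((hbc.pow_pow _ _).mul_right (hbd.pow_pow _ _))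

end hom

/-! ### the subgroups -/

theorem comm_of {l l' : List (ℕ × ℕ)} (h : same (l ++ l') (l' ++ l) = true) : Commute (word l) (word l') := by
  show word l * word l' = word l' * word l
  rw [← word_append, ← word_append]
  exact word_eq h

theorem conj_of {l l' : List (ℕ × ℕ)} {k : ℕ} (h : same (l ++ l') (rp k l' ++ l) = true) :
    word l * word l' * (word l)⁻¹ = word l' ^ k := by
  have h1 := word_eq h
  rw [word_append, word_append, word_rp] at h1
  rw [h1, mul_inv_cancel_right]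

theorem pow_of {l : List (ℕ × ℕ)} {k : ℕ} (h : same (rp k l) [] = true) : word l ^ k = 1 := by
  rw [← word_rp]
  exact word_eq h

theorem ind_three : ∀ i j k l : ZMod 3, tst (rp i.val x1 ++ rp j.val x2 ++ (rp k.val x3 ++ rp l.val x4)) = true ∨
    (i = 0 ∧ j = 0 ∧ k = 0 ∧ l = 0) := by decide +kernel

theorem ind_five : ∀ i j : ZMod 5, tst (rp i.val y1 ++ rp j.val y2) = true ∨ (i = 0 ∧ j = 0) := by decide +kernel

theorem exists_three : ∃ X : Subgroup Om, Nat.card X = 3 ^ 4 ∧ (∀ y ∈ X, ∀ y' ∈ X, y * y' = y' * y) ∧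
    (∀ y ∈ X, y ^ 3 = 1) ∧ ∀ y ∈ X, word t * y * (word t)⁻¹ = y ^ 2 := by
  refine exists_four (a := word x1) (b := word x2) (c := word x3) (d := word x4) (pow_of (by decide +kernel))
    (pow_of (by decide +kernel)) (pow_of (by decide +kernel)) (pow_of (by decide +kernel)) (comm_of (by decide +kernel))
    (comm_of (by decide +kernel)) (comm_of (by decide +kernel)) (comm_of (by decide +kernel))
    (comm_of (by decide +kernel)) (comm_of (by decide +kernel)) (fun i j k l h => ?_) (conj_of (by decide +kernel))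
    (conj_of (by decide +kernel)) (conj_of (by decide +kernel)) (conj_of (by decide +kernel))
  refine (ind_three i j k l).resolve_left fun h1 => ne_one_of_tst h1 ?_
  rw [word_append, word_append, word_append, word_rp, word_rp, word_rp, word_rp]
  exact h

theorem exists_five : ∃ X : Subgroup Om, Nat.card X = 5 ^ 2 ∧ (∀ y ∈ X, ∀ y' ∈ X, y * y' = y' * y) ∧
    (∀ y ∈ X, y ^ 5 = 1) ∧ ∀ y ∈ X, word u * y * (word u)⁻¹ = y ^ 2 := by
  refine exists_two (a := word y1) (b := word y2) (pow_of (by decide +kernel)) (pow_of (by decide +kernel))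
    (comm_of (by decide +kernel)) (fun i j h => ?_) (conj_of (by decide +kernel)) (conj_of (by decide +kernel))
  refine (ind_five i j).resolve_left fun h1 => ne_one_of_tst h1 ?_
  rw [word_append, word_rp, word_rp]
  exact h

/-! ### eight classes -/

/-- the number of fixed vectors -/
noncomputable def fx (g : Om) : ℕ := Nat.card {v : V // (g : V ≃ₗ[ZMod 2] V) v = v}

theorem fx_conj {g h : Om} (hc : IsConj g h) : fx g = fx h := by
  obtain ⟨y, rfl⟩ := isConj_iff.1 hc
  refine Nat.card_congr (Equiv.subtypeEquiv (y : V ≃ₗ[ZMod 2] V).toEquiv fun v => ?_)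
  show (g : V ≃ₗ[ZMod 2] V) v = v ↔ ((y * g * y⁻¹ : Om) : V ≃ₗ[ZMod 2] V) ((y : V ≃ₗ[ZMod 2] V) v) =
    (y : V ≃ₗ[ZMod 2] V) v
  have h1 : ((y * g * y⁻¹ : Om) : V ≃ₗ[ZMod 2] V) ((y : V ≃ₗ[ZMod 2] V) v) =
      (y : V ≃ₗ[ZMod 2] V) ((g : V ≃ₗ[ZMod 2] V) v) := by
    show (y : V ≃ₗ[ZMod 2] V) ((g : V ≃ₗ[ZMod 2] V) (((y : V ≃ₗ[ZMod 2] V)⁻¹) ((y : V ≃ₗ[ZMod 2] V) v))) = _
    have h2 : ((y : V ≃ₗ[ZMod 2] V)⁻¹) ((y : V ≃ₗ[ZMod 2] V) v) = v := (y : V ≃ₗ[ZMod 2] V).symm_apply_apply v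
    rw [h2]
  rw [h1, (y : V ≃ₗ[ZMod 2] V).injective.eq_iff]

/-- the number of fixed codes -/
def fn (l : List (ℕ × ℕ)) : ℕ := (List.range 256).countP fun v => ev l v == v

theorem fx_word {l : List (ℕ × ℕ)} (hl : l.all ok = true) (h : ∀ v : Fin 256, ev l v < 256) : fx (word l) = fn l := by
  have hb : Function.Bijective (fun a : Fin 256 => dec a.1) := by
    refine ⟨fun a b hab => Fin.ext (dec_inj a.2 b.2 hab), fun v => ?_⟩
    obtain ⟨a, ha, rfl⟩ := dec_surj v
    exact ⟨⟨a, ha⟩, rfl⟩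
  have h1 : fx (word l) = Nat.card {a : Fin 256 // ev l a = a} := by
    refine Nat.card_congr (Equiv.subtypeEquiv (Equiv.ofBijective _ hb) fun a => ?_).symm
    show ev l a = a ↔ ((word l : Om) : V ≃ₗ[ZMod 2] V) (dec a) = dec a
    rw [word_dec hl]
    exact ⟨fun e => by rw [e], fun e => dec_inj (h a) a.2 e⟩
  rw [h1, Nat.card_eq_fintype_card, Fintype.card_subtype]
  have h2 : fn l = ((List.finRange 256).countP fun a => ev l a.1 == a.1) := by
    rw [fn, ← List.map_coe_finRange_eq_range, List.countP_map]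
    rfl
  rw [h2, List.countP_eq_length_filter, ← List.toFinset_card_of_nodup ((List.nodup_finRange 256).filter _)]
  congr 1
  ext a
  simp

/-- eight elements of odd order -/
def cl : Fin 8 → List (ℕ × ℕ) := ![[], x1, x1 ++ x2, x1 ++ x2 ++ x3, x1 ++ x2 ++ x3 ++ x4, y1, y1 ++ y2, z]

def ex : Fin 8 → ℕ := ![1, 3, 3, 3, 3, 5, 5, 7]

def fxs : Fin 8 → ℕ := ![256, 64, 16, 4, 1, 16, 1, 4]

theorem cl_ok : ∀ i, (cl i).all ok = true := by decide +kernel

theorem cl_lt : ∀ i, ∀ v : Fin 256, ev (cl i) v < 256 := by decide +kernel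

theorem cl_pow : ∀ i, same (rp (ex i) (cl i)) [] = true := by decide +kernel

theorem cl_ne : ∀ i, i = 0 ∨ tst (cl i) = true := by decide +kernel

theorem cl_fn : ∀ i, fn (cl i) = fxs i := by decide +kernel

theorem orderOf_cl (i : Fin 8) : orderOf (word (cl i)) = ex i := by
  have h1 : word (cl i) ^ ex i = 1 := pow_of (cl_pow i)
  rcases cl_ne i with rfl | h
  · exact orderOf_one
  · have h2 : word (cl i) ≠ 1 := ne_one_of_tst h
    have h3 : i = 0 ∨ (ex i).Prime := by
      revert i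
      intro i _ _ _
      fin_cases i
      · exact Or.inl rfl
      all_goals exact Or.inr (by simp only [ex]; norm_num)
    rcases h3 with rfl | h3
    · exact orderOf_one
    · have := Fact.mk h3
      exact orderOf_eq_prime h1 h2

theorem cl_inj {i j : Fin 8} (h : IsConj (word (cl i)) (word (cl j))) : i = j := by
  have h1 : ex i = ex j := by
    rw [← orderOf_cl, ← orderOf_cl]
    obtain ⟨y, hy⟩ := isConj_iff.1 h
    rw [← hy]
    exact (orderOf_injective (MulAut.conj y).toMonoidHom (MulAut.conj y).injective _).symm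
  have h2 : fxs i = fxs j := by
    rw [← cl_fn, ← cl_fn, ← fx_word (cl_ok i) (cl_lt i), ← fx_word (cl_ok j) (cl_lt j)]
    exact fx_conj h
  have h3 : ∀ i j : Fin 8, ex i = ex j → fxs i = fxs j → i = j := by decide
  exact h3 i j h1 h2

end Cfsg.Agent.H852.QA.O8

private theorem dce_f8651d61a4f7 : _root_.True := by
  try have : _root_.True := by simp only [_root_.Cfsg.Agent.H852.QA.O8.ex.eq_1]
  try have : _root_.True := by simp only [_root_.Cfsg.Agent.H852.QA.O8.rp.eq_1]
  try have : _root_.True := by simp only [_root_.Cfsg.Agent.H852.QA.O8.rp.eq_2]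
  try have : _root_.True := by simp only [_root_.Cfsg.Agent.StdO8.Code.basis.eq_1]
  try have : _root_.True := by simp only [_root_.Cfsg.Agent.H852.QA.O8.tst.eq_1]
  try have : _root_.True := by simp only [_root_.Cfsg.Agent.H852.QA.O8.rp.eq_def]
  try have : _root_.True := by simp only [_root_.Cfsg.Agent.H852.QA.O8.fn.eq_1]
  exact _root_.True.intro
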